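import Mathlib
import Cfsg.Agent.Lib.PResidual

/-!
Groups of rank one in the natural characteristic: an automorphism which fixes a Sylow subgroup
pointwise and commutes with a suitable torus element is trivial.
-/

set_option autoImplicit false
set_option linter.unusedSectionVars false

namespace CfsgLib.RankOneCentre

open Subgroup
open scoped commutatorElement

/-- The data of a rank one group at the Sylow subgroup `U`. -/
structure IsData {X : Type*} [Group X] (p : ℕ) (U : Subgroup X) : Prop where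
  pgroup : IsPGroup p U
  index_prime : ¬ p ∣ U.index
  perfect : commutator X = ⊤
  ti : ∀ u ∈ U, u ≠ 1 → ∀ g : X, g⁻¹ * u * g ∈ U → g ∈ normalizer (U : Set X)
  count : (normalizer (U : Set X)).index = Nat.card U + 1
  cyclic : ∃ g0 ∈ normalizer (U : Set X), ∀ x ∈ normalizer (U : Set X), ∃ i : ℤ, x⁻¹ * g0 ^ i ∈ U
  torus : ∃ t ∈ normalizer (U : Set X), t ^ (p - 1) ∈ U ∧ (∀ u ∈ U, t * u = u * t → u = 1) ∧
    ∃ w : X, w ∉ normalizer (U : Set X) ∧ w * t * w⁻¹ ∈ normalizer (U : Set X)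

section Sylow

variable {G : Type*} [Group G] [Finite G] {p : ℕ} [Fact p.Prime]

/-- A `p`-element normalising a Sylow subgroup lies in it. -/
theorem mem_of_pElement {U : Subgroup G} (hU : IsPGroup p U) (hi : ¬ p ∣ U.index) {g : G}
    (hg : g ∈ normalizer (U : Set G)) {k : ℕ} (hk : g ^ p ^ k = 1) : g ∈ U := by
  have hz : IsPGroup p (zpowers g) := by
    rintro ⟨x, i, rfl⟩
    refine ⟨k, Subtype.ext ?_⟩
    show (g ^ i) ^ p ^ k = 1
    rw [← zpow_natCast, ← zpow_mul, mul_comm, zpow_mul, zpow_natCast, hk, one_zpow]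
  have hsup : IsPGroup p (zpowers g ⊔ U : Subgroup G) :=
    hz.to_sup_of_normal_right' hU (zpowers_le.mpr hg)
  have he : (zpowers g ⊔ U : Subgroup G) = U := by
    have := (hU.toSylow hi).3 hsup
    exact this (by show U ≤ zpowers g ⊔ U; exact le_sup_right)
  exact he ▸ mem_sup_left (mem_zpowers g)

theorem pow_eq_one_of_mem {U : Subgroup G} (hU : IsPGroup p U) {u : G} (hu : u ∈ U) :
    ∃ k : ℕ, u ^ p ^ k = 1 := by
  obtain ⟨k, hk⟩ := hU ⟨u, hu⟩
  exact ⟨k, congrArg Subtype.val hk⟩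

/-- A map of `p`-power order fixes every point of an invariant set with fewer than `p` elements. -/
theorem fix_of_small {Q : Type*} [Finite Q] (f : Q → Q) (D : Set Q) (hD : ∀ a ∈ D, f a ∈ D)
    (hcard : Nat.card D < p) {k : ℕ} (hf : ∀ a, f^[p ^ k] a = a) {a : Q} (ha : a ∈ D) : f a = a := by
  have hper : Function.IsPeriodicPt f (p ^ k) a := hf a
  obtain ⟨j, -, hj⟩ := (Nat.dvd_prime_pow (Fact.out : p.Prime)).mp hper.minimalPeriod_dvd
  have hmem : ∀ n, f^[n] a ∈ D := by
    intro n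
    induction n with
    | zero => exact ha
    | succ n ih => rw [Function.iterate_succ_apply']; exact hD _ ih
  have hle : Function.minimalPeriod f a ≤ Nat.card D := by
    let F : Fin (Function.minimalPeriod f a) → D := fun n => ⟨f^[n.1] a, hmem _⟩
    have hF : Function.Injective F := fun m n e =>
      Fin.ext (Function.iterate_injOn_Iio_minimalPeriod (f := f) (x := a) m.2 n.2 (congrArg Subtype.val e))
    simpa using Nat.card_le_card_of_injective F hF
  have hj0 : j = 0 := by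
    by_contra h0
    have : p ≤ p ^ j := Nat.le_self_pow h0 p
    omega
  rw [hj0, pow_zero] at hj
  exact Function.minimalPeriod_eq_one_iff_isFixedPt.mp hj

end Sylow

namespace IsData

variable {X : Type*} [Group X] [Finite X] {p : ℕ} [hp : Fact p.Prime] {U : Subgroup X}

/-- An automorphism of `p`-power order normalising `U` moves the small torus inside its `U`-coset. -/
theorem torus_fix (h : IsData p U) (β : X ≃* X) (hβ : ∀ x, x ∈ U ↔ β x ∈ U) {k : ℕ}
    (hk : ∀ x, β^[p ^ k] x = x) {t : X} (ht : t ∈ normalizer (U : Set X)) (htp : t ^ (p - 1) ∈ U) :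
    β t * t⁻¹ ∈ U := by
  obtain ⟨g0, hg0, hcyc⟩ := h.cyclic
  have hN : ∀ x, x ∈ normalizer (U : Set X) → β x ∈ normalizer (U : Set X) := by
    intro x hx
    rw [mem_normalizer_iff] at hx ⊢
    intro y
    obtain ⟨y, rfl⟩ := β.surjective y
    rw [← hβ, hx y, hβ, map_mul, map_mul, map_inv]
  let N := normalizer (U : Set X)
  let U' : Subgroup N := U.subgroupOf N
  haveI : U'.Normal := Subgroup.normal_in_normalizer
  let βN : N →* N :=
    MonoidHom.codRestrict (β.toMonoidHom.comp N.subtype) N (fun x => hN x.1 x.2)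
  have hle : U' ≤ U'.comap βN := fun x hx => mem_subgroupOf.mpr ((hβ x.1).mp (mem_subgroupOf.mp hx))
  let f : N ⧸ U' →* N ⧸ U' := QuotientGroup.map U' U' βN hle
  haveI : IsCyclic (N ⧸ U') := by
    refine ⟨⟨QuotientGroup.mk' U' ⟨g0, hg0⟩, fun y => ?_⟩⟩
    obtain ⟨⟨x, hx⟩, rfl⟩ := QuotientGroup.mk'_surjective U' y
    obtain ⟨i, hi⟩ := hcyc x hx
    refine ⟨i, ?_⟩
    show (QuotientGroup.mk' U' ⟨g0, hg0⟩) ^ i = QuotientGroup.mk' U' ⟨x, hx⟩
    rw [← map_zpow]
    refine ((QuotientGroup.eq (s := U')).mpr ?_).symm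
    exact mem_subgroupOf.mpr (by simpa using hi)
  let D : Set (N ⧸ U') := {a | a ^ (p - 1) = 1}
  have hD : ∀ a ∈ D, f a ∈ D := fun a ha => by
    show f a ^ (p - 1) = 1
    rw [← map_pow, show a ^ (p - 1) = 1 from ha, map_one]
  have h2 := hp.out.two_le
  have hcard : Nat.card D < p := by
    classical
    haveI : Fintype (N ⧸ U') := Fintype.ofFinite _
    have := IsCyclic.card_pow_eq_one_le (α := N ⧸ U') (n := p - 1) (by omega)
    rw [Nat.card_eq_fintype_card]
    have e : Fintype.card D = (Finset.univ.filter fun a : N ⧸ U' => a ^ (p - 1) = 1).card := by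
      rw [← Fintype.card_subtype]; rfl
    omega
  have hit : ∀ n, ∀ x : N, f^[n] (QuotientGroup.mk' U' x) = QuotientGroup.mk' U' (βN^[n] x) := by
    intro n
    induction n with
    | zero => intro x; rfl
    | succ n ih => intro x; rw [Function.iterate_succ_apply, Function.iterate_succ_apply]; exact ih (βN x)
  have hitv : ∀ n, ∀ x : N, ((βN^[n] x : N) : X) = β^[n] x.1 := by
    intro n
    induction n with
    | zero => intro x; rfl
    | succ n ih => intro x; rw [Function.iterate_succ_apply, Function.iterate_succ_apply]; exact ih (βN x)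
  have hfix := fix_of_small (p := p) f D hD hcard (k := k)
    (fun a => by
      obtain ⟨x, rfl⟩ := QuotientGroup.mk'_surjective U' a
      rw [hit, show βN^[p ^ k] x = x from Subtype.ext (by rw [hitv, hk])])
    (a := QuotientGroup.mk' U' ⟨t, ht⟩) (by
      show (QuotientGroup.mk' U' ⟨t, ht⟩) ^ (p - 1) = 1
      rw [← map_pow]
      exact (QuotientGroup.eq_one_iff _).mpr (mem_subgroupOf.mpr htp))
  have hmem : (βN ⟨t, ht⟩)⁻¹ * ⟨t, ht⟩ ∈ U' := (QuotientGroup.eq (s := U')).mp hfix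
  have h1 : (β t)⁻¹ * t ∈ U := mem_subgroupOf.mp hmem
  have h3 : t⁻¹ * β t ∈ U := by simpa using inv_mem h1
  have h4 := (mem_normalizer_iff.mp ht _).mp h3
  simpa [mul_assoc] using h4

theorem normalClosure_eq_top (h : IsData p U) : normalClosure (U : Set X) = ⊤ := by
  obtain ⟨g0, hg0, hcyc⟩ := h.cyclic
  set Y := normalClosure (U : Set X) with hY
  have hUY : U ≤ Y := fun x hx => subset_normalClosure hx
  have hsup : normalizer (U : Set X) ⊔ Y = ⊤ :=
    Sylow.normalizer_sup_eq_top' (N := Y) (h.pgroup.toSylow h.index_prime) hUY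
  have hgen : ∀ q : X ⧸ Y, ∃ i : ℤ, q = (QuotientGroup.mk' Y g0) ^ i := by
    intro q
    obtain ⟨x, rfl⟩ := QuotientGroup.mk'_surjective Y q
    obtain ⟨a, ha, b, hb, rfl⟩ := mem_sup_of_normal_right.mp (show x ∈ normalizer (U : Set X) ⊔ Y by
      rw [hsup]; exact mem_top x)
    obtain ⟨i, hi⟩ := hcyc a ha
    refine ⟨i, ?_⟩
    rw [← map_zpow]
    refine (QuotientGroup.eq (s := Y)).mpr ?_
    rw [_root_.mul_inv_rev, mul_assoc]
    exact mul_mem (inv_mem hb) (hUY hi)
  rw [eq_top_iff, ← h.perfect, _root_.commutator_def, commutator_le]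
  intro x _ y _
  obtain ⟨i, hi⟩ := hgen (QuotientGroup.mk' Y x)
  obtain ⟨j, hj⟩ := hgen (QuotientGroup.mk' Y y)
  rw [← QuotientGroup.eq_one_iff]
  show QuotientGroup.mk' Y ⁅x, y⁆ = 1
  rw [map_commutatorElement, hi, hj, commutatorElement_eq_one_iff_mul_comm, ← zpow_add, ← zpow_add, add_comm]

/-- An automorphism fixing `U` and the torus element is trivial. -/
theorem aut_eq_one (h : IsData p U) (α : X ≃* X) (hU : ∀ u ∈ U, α u = u) {t : X}
    (ht : t ∈ normalizer (U : Set X)) (hfp : ∀ u ∈ U, t * u = u * t → u = 1) {w : X}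
    (hw : w ∉ normalizer (U : Set X)) (hwt : w * t * w⁻¹ ∈ normalizer (U : Set X))
    (hαt : α t = t) : ∀ x, α x = x := by
  set N := normalizer (U : Set X) with hNdef
  have hαU : ∀ x, x ∈ U ↔ α x ∈ U := by
    refine fun x => ⟨fun hx => (hU x hx).symm ▸ hx, fun hx => ?_⟩
    have := hU (α x) hx
    rw [α.injective this] at hx
    exact hx
  have hαN : ∀ x, x ∈ N ↔ α x ∈ N := by
    intro x
    simp only [hNdef, mem_normalizer_iff]
    constructor
    · intro hx y
      obtain ⟨y, rfl⟩ := α.surjective y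
      rw [← hαU, hx y, hαU, map_mul, map_mul, map_inv]
    · intro hx y
      rw [hαU, hx (α y), ← map_inv, ← map_mul, ← map_mul, ← hαU]
  have hNinv : w⁻¹ ∉ N := fun h' => hw (by simpa using inv_mem h')
  -- the other fixed point of the torus element meets `U` trivially
  have hcap : ∀ u ∈ U, w * u * w⁻¹ ∈ N → u = 1 := by
    intro u hu hwu
    obtain ⟨k, hk⟩ := pow_eq_one_of_mem h.pgroup hu
    have hwu' : w * u * w⁻¹ ∈ U := mem_of_pElement h.pgroup h.index_prime hwu (k := k)
      (by rw [conj_pow, hk, mul_one, mul_inv_cancel])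
    by_contra hne
    exact hNinv (h.ti u hu hne w⁻¹ (by simpa using hwu'))
  -- the orbit of `U` covers all other points
  have hcover : ∀ g : X, g ∉ N → ∃ u ∈ U, ∃ n ∈ N, g = u * w⁻¹ * n := by
    intro g hg
    let F : Option U → X ⧸ N := fun o => match o with
      | none => QuotientGroup.mk 1
      | some u => QuotientGroup.mk (u.1 * w⁻¹)
    have hnone : ∀ u : U, F none ≠ F (some u) := by
      intro u e
      have e' : (1 : X)⁻¹ * (u.1 * w⁻¹) ∈ N := QuotientGroup.eq.mp e
      rw [inv_one, one_mul] at e'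
      exact hNinv ((mul_mem_cancel_left (le_normalizer u.2)).mp e')
    have hinj : Function.Injective F := by
      rintro (_ | u) (_ | v) e
      · rfl
      · exact absurd e (hnone v)
      · exact absurd e.symm (hnone u)
      · have e' : (u.1 * w⁻¹)⁻¹ * (v.1 * w⁻¹) ∈ N := QuotientGroup.eq.mp e
        have e'' : w * (u.1⁻¹ * v.1) * w⁻¹ ∈ N := by simpa [mul_assoc] using e'
        have := hcap _ (mul_mem (inv_mem u.2) v.2) e''
        exact congrArg some (Subtype.ext (inv_mul_eq_one.mp this))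
    have hcard : Nat.card (Option U) = Nat.card (X ⧸ N) := by
      rw [Finite.card_option, ← h.count]; rfl
    have hbij := hinj.bijective_of_nat_card_le hcard.ge
    obtain ⟨o, ho⟩ := hbij.2 (QuotientGroup.mk g)
    cases o with
    | none =>
      have e' : (1 : X)⁻¹ * g ∈ N := QuotientGroup.eq.mp ho
      exact absurd (by simpa using e') hg
    | some u =>
      exact ⟨u.1, u.2, _, QuotientGroup.eq.mp ho, by rw [mul_inv_cancel_left]⟩
  -- the point `w⁻¹` is fixed
  obtain ⟨n, hn, hαw⟩ : ∃ n ∈ N, α w⁻¹ = w⁻¹ * n := by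
    obtain ⟨u, hu, n, hn, e⟩ := hcover (α w⁻¹) (fun h' => hNinv ((hαN _).mpr h'))
    have h1 : (α w⁻¹)⁻¹ * t * α w⁻¹ ∈ N := by
      have := (hαN _).mp hwt
      simpa [hαt] using this
    rw [e] at h1
    have h2 : w * u⁻¹ * t * u * w⁻¹ ∈ N := by
      have := mul_mem (mul_mem hn h1) (inv_mem hn)
      simpa [mul_assoc] using this
    have h3 : w * (t⁻¹ * (u⁻¹ * t * u)) * w⁻¹ ∈ N := by
      have := mul_mem (inv_mem hwt) h2
      simpa [mul_assoc] using this
    have h4 : t⁻¹ * (u⁻¹ * t * u) ∈ U := by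
      have := mul_mem ((mem_normalizer_iff''.mp ht u⁻¹).mp (inv_mem hu)) hu
      simpa [mul_assoc] using this
    have h5 := hcap _ h4 h3
    have h6 : u⁻¹ * t * u = t := (inv_mul_eq_one.mp h5).symm
    have hu1 : u = 1 := hfp u hu (by
      have := congrArg (u * ·) h6
      simpa [mul_assoc] using this)
    exact ⟨n, hn, by rw [e, hu1, one_mul]⟩
  -- the second Sylow subgroup is fixed pointwise
  have hU1 : ∀ a ∈ U, α (w⁻¹ * a * w) = w⁻¹ * a * w := by
    intro a ha
    have hαw' : α w = n⁻¹ * w := by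
      have := congrArg (·⁻¹) hαw
      simpa using this
    have hna : n * a * n⁻¹ ∈ U := (mem_normalizer_iff.mp hn a).mp ha
    have e : α (w⁻¹ * a * w) = w⁻¹ * (n * a * n⁻¹) * w := by
      rw [map_mul, map_mul, hU a ha, hαw, hαw']; group
    set g := (w⁻¹ * a * w)⁻¹ * α (w⁻¹ * a * w) with hg
    have hgN : g ∈ N := by
      by_cases hv : w⁻¹ * a * w ∈ N
      · exact mul_mem (inv_mem hv) ((hαN _).mp hv)
      · obtain ⟨u', hu', n', hn', e'⟩ := hcover _ hv
        rw [hg, e', map_mul, map_mul, hU u' hu', hαw]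
        have := mul_mem (mul_mem (inv_mem hn') hn) ((hαN _).mp hn')
        simpa [mul_assoc] using this
    have hgU1 : g = w⁻¹ * (a⁻¹ * (n * a * n⁻¹)) * w := by rw [hg, e]; group
    have hm : a⁻¹ * (n * a * n⁻¹) ∈ U := mul_mem (inv_mem ha) hna
    obtain ⟨k, hk⟩ := pow_eq_one_of_mem h.pgroup hm
    have hgU : g ∈ U := mem_of_pElement h.pgroup h.index_prime hgN (k := k) (by
      have h' := conj_pow (a := w⁻¹) (b := a⁻¹ * (n * a * n⁻¹)) (i := p ^ k)
      rw [inv_inv] at h'
      rw [hgU1, h', hk, mul_one, inv_mul_cancel])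
    have := hcap g hgU (le_normalizer (show w * g * w⁻¹ ∈ U by rw [hgU1]; simpa [mul_assoc] using hm))
    exact (inv_mul_eq_one.mp this).symm
  have hle : normalClosure (U : Set X) ≤ α.toMonoidHom.eqLocus (MonoidHom.id X) := by
    refine (closure_le _).mpr fun x hx => ?_
    obtain ⟨a, ha, hax⟩ := Group.mem_conjugatesOfSet_iff.mp hx
    obtain ⟨g, rfl⟩ := isConj_iff.mp hax
    show α (g * a * g⁻¹) = g * a * g⁻¹
    by_cases hg : g ∈ N
    · exact hU _ ((mem_normalizer_iff.mp hg a).mp ha)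
    · obtain ⟨u, hu, m, hm, rfl⟩ := hcover g hg
      have hma : m * a * m⁻¹ ∈ U := (mem_normalizer_iff.mp hm a).mp ha
      rw [show u * w⁻¹ * m * a * (u * w⁻¹ * m)⁻¹ = u * (w⁻¹ * (m * a * m⁻¹) * w) * u⁻¹ by group,
        map_mul, map_mul, map_inv, hU u hu, hU1 _ hma]
  intro x
  exact hle (h.normalClosure_eq_top ▸ mem_top x)

/-- Transfer along a surjection with central kernel of order prime to `p`. -/
theorem map {Z : Type*} [Group Z] [Finite Z] (h : IsData p U) (φ : X →* Z)
    (hφ : Function.Surjective φ) (hker : φ.ker ≤ center X) (hcop : ¬ p ∣ Nat.card φ.ker) :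
    IsData p (U.map φ) := by
  have hkN : φ.ker ≤ normalizer (U : Set X) := fun z hz => by
    rw [mem_normalizer_iff]
    intro y
    rw [(mem_center_iff.mp (hker hz) y).symm, mul_inv_cancel_right]
  have hsep : ∀ x : X, (∃ k, x ^ p ^ k = 1) → φ x ∈ U.map φ → x ∈ U := by
    rintro x ⟨k, hk⟩ ⟨u, hu, e⟩
    obtain ⟨j, hj⟩ := pow_eq_one_of_mem h.pgroup hu
    have hz : u⁻¹ * x ∈ φ.ker := by rw [MonoidHom.mem_ker, map_mul, map_inv, e, inv_mul_cancel]
    have hc : Commute u (u⁻¹ * x) := mem_center_iff.mp (hker hz) u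
    have hx : x = u * (u⁻¹ * x) := by rw [mul_inv_cancel_left]
    have h1 : (u⁻¹ * x) ^ p ^ (k + j) = 1 := by
      have h1 : x ^ p ^ (k + j) = 1 := by rw [pow_add, pow_mul, hk, one_pow]
      have h2 : u ^ p ^ (k + j) = 1 := by rw [pow_add, mul_comm, pow_mul, hj, one_pow]
      rw [hx, hc.mul_pow, h2, one_mul] at h1
      exact h1
    have h2 : orderOf (u⁻¹ * x) ∣ Nat.card φ.ker := Subgroup.orderOf_dvd_natCard φ.ker hz
    have h3 : (p ^ (k + j)).Coprime (Nat.card φ.ker) :=
      Nat.Coprime.pow_left _ (hp.out.coprime_iff_not_dvd.mpr hcop)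
    have h4 : u⁻¹ * x = 1 := orderOf_eq_one_iff.mp
      (Nat.eq_one_of_dvd_coprimes h3 (orderOf_dvd_of_pow_eq_one h1) h2)
    rw [hx, h4, mul_one]; exact hu
  have hpow : ∀ u ∈ U, ∃ k, u ^ p ^ k = 1 := fun u hu => pow_eq_one_of_mem h.pgroup hu
  have hcpow : ∀ (g : X), ∀ u ∈ U, ∃ k, (g * u * g⁻¹) ^ p ^ k = 1 := fun g u hu => by
    obtain ⟨k, hk⟩ := hpow u hu
    exact ⟨k, by rw [conj_pow, hk, mul_one, mul_inv_cancel]⟩
  have hN : (normalizer (U : Set X)).map φ = normalizer ((U.map φ : Subgroup Z) : Set Z) := by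
    refine le_antisymm (le_normalizer_map φ) fun y hy => ?_
    obtain ⟨g, rfl⟩ := hφ y
    refine ⟨g, ?_, rfl⟩
    rw [SetLike.mem_coe, mem_normalizer_iff]
    refine fun u => ⟨fun hu => hsep _ (hcpow g u hu) ?_, fun hu => ?_⟩
    · rw [map_mul, map_mul, map_inv]
      exact (mem_normalizer_iff.mp hy _).mp (mem_map_of_mem φ hu)
    · have hu' := hcpow g⁻¹ _ hu
      rw [inv_inv, show g⁻¹ * (g * u * g⁻¹) * g = u by group] at hu'
      refine hsep _ hu' ((mem_normalizer_iff.mp hy _).mpr ?_)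
      simpa using mem_map_of_mem φ hu
  have hmemN : ∀ g : X, φ g ∈ normalizer ((U.map φ : Subgroup Z) : Set Z) ↔ g ∈ normalizer (U : Set X) := by
    intro g
    rw [← hN]
    constructor
    · rintro ⟨n, hn, e⟩
      have : n⁻¹ * g ∈ normalizer (U : Set X) := hkN (by rw [MonoidHom.mem_ker, map_mul, map_inv, e, inv_mul_cancel])
      exact (mul_mem_cancel_left (inv_mem hn)).mp this
    · exact fun hg => ⟨g, hg, rfl⟩
  refine
    { pgroup := h.pgroup.map φ
      index_prime := fun hd => h.index_prime (hd.trans (index_map_dvd U hφ))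
      perfect := by
        rw [_root_.commutator_def, ← Subgroup.map_top_of_surjective φ hφ, ← map_commutator, ← _root_.commutator_def, h.perfect]
      ti := ?_
      count := ?_
      cyclic := ?_
      torus := ?_ }
  · rintro _ ⟨u, hu, rfl⟩ hu1 y hy
    obtain ⟨g, rfl⟩ := hφ y
    rw [hmemN]
    refine h.ti u hu (fun e => hu1 (by rw [e, map_one])) g (hsep _ ?_ (by simpa using hy))
    simpa using hcpow g⁻¹ u hu
  · have hc : Nat.card (U.map φ) = Nat.card U := by
      refine (Nat.card_congr (Equiv.ofBijective (fun u : U => (⟨φ u.1, mem_map_of_mem φ u.2⟩ : U.map φ))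
        ⟨fun u v e => ?_, fun y => ?_⟩)).symm
      · have e' : φ u.1 = φ v.1 := congrArg Subtype.val e
        have hk : (u.1⁻¹ * v.1) ∈ φ.ker := by rw [MonoidHom.mem_ker, map_mul, map_inv, e', inv_mul_cancel]
        obtain ⟨k, hk'⟩ := hpow _ (mul_mem (inv_mem u.2) v.2)
        have h3 : (p ^ k).Coprime (Nat.card φ.ker) :=
          Nat.Coprime.pow_left _ (hp.out.coprime_iff_not_dvd.mpr hcop)
        exact Subtype.ext (inv_mul_eq_one.mp (orderOf_eq_one_iff.mp
          (Nat.eq_one_of_dvd_coprimes h3 (orderOf_dvd_of_pow_eq_one hk') (Subgroup.orderOf_dvd_natCard φ.ker hk))))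
      · obtain ⟨_, u, hu, rfl⟩ := y
        exact ⟨⟨u, hu⟩, rfl⟩
    rw [← hN, index_map_eq _ hφ hkN, h.count, hc]
  · obtain ⟨g0, hg0, hc⟩ := h.cyclic
    refine ⟨φ g0, (hmemN g0).mpr hg0, fun y hy => ?_⟩
    obtain ⟨x, rfl⟩ := hφ y
    obtain ⟨i, hi⟩ := hc x ((hmemN x).mp hy)
    exact ⟨i, by rw [← map_zpow, ← map_inv, ← map_mul]; exact mem_map_of_mem φ hi⟩
  · obtain ⟨t, ht, htp, hfp, w, hw, hwt⟩ := h.torus
    refine ⟨φ t, (hmemN t).mpr ht, map_pow φ t (p - 1) ▸ mem_map_of_mem φ htp, ?_,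
      φ w, fun e => hw ((hmemN w).mp e), by rw [← map_inv, ← map_mul, ← map_mul]; exact (hmemN _).mpr hwt⟩
    rintro _ ⟨u, hu, rfl⟩ e
    have he : φ (t * u * t⁻¹) = φ u := by
      rw [map_mul, map_mul, map_inv, e, mul_inv_cancel_right]
    have h1 : t * u * t⁻¹ ∈ U := (mem_normalizer_iff.mp ht u).mp hu
    have hk : (u⁻¹ * (t * u * t⁻¹)) ∈ φ.ker := by rw [MonoidHom.mem_ker, map_mul, map_inv, he, inv_mul_cancel]
    obtain ⟨k, hk'⟩ := hpow _ (mul_mem (inv_mem hu) h1)
    have h3 : (p ^ k).Coprime (Nat.card φ.ker) :=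
      Nat.Coprime.pow_left _ (hp.out.coprime_iff_not_dvd.mpr hcop)
    have h4 := inv_mul_eq_one.mp (orderOf_eq_one_iff.mp
      (Nat.eq_one_of_dvd_coprimes h3 (orderOf_dvd_of_pow_eq_one hk') (Subgroup.orderOf_dvd_natCard φ.ker hk)))
    rw [hfp u hu (mul_inv_eq_iff_eq_mul.mp h4.symm), map_one]

end IsData

end CfsgLib.RankOneCentre
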