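import Cfsg.Agent.Lib.RankOneCentre.Core

/-!
Central `p`-elements over a rank one residual.
-/

set_option autoImplicit false
set_option linter.unusedSectionVars false

namespace CfsgLib.RankOneCentre

open Subgroup

variable {Y : Type*} [Group Y] [Finite Y] {p : ℕ} [hp : Fact p.Prime]

theorem iterate_conjNormal (X : Subgroup Y) [X.Normal] (s : Y) (n : ℕ) (x : X) :
    (MulAut.conjNormal (H := X) s : X → X)^[n] x = MulAut.conjNormal (H := X) (s ^ n) x := by
  induction n with
  | zero => simp
  | succ n ih => rw [Function.iterate_succ_apply', ih, pow_succ', map_mul]; rfl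

/-- An element of a Sylow subgroup commuting with its normaliser is trivial when the residual has rank one. -/
theorem eq_one_of_central (hcore : Cfsg.pCore p Y = ⊥)
    (hX : ∃ U : Subgroup ↥(Cfsg.pResidual p Y), IsData p U) (T : Sylow p Y) {z : Y}
    (hz : z ∈ (T : Subgroup Y)) (hcent : ∀ y ∈ normalizer ((T : Subgroup Y) : Set Y), z * y = y * z) :
    z = 1 := by
  haveI hXn : (Cfsg.pResidual p Y).Normal := PResidual.pResidual_normal
  set X := Cfsg.pResidual p Y with hXdef
  obtain ⟨U0, hU0⟩ := hX
  set U : Subgroup X := (T : Subgroup Y).subgroupOf X with hUdef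
  have hUp : IsPGroup p U := T.2.comap_of_injective X.subtype X.subtype_injective
  have hUi : ¬ p ∣ U.index := by
    show ¬ p ∣ (T : Subgroup Y).relIndex X
    have h1 : Nat.card ↥((T : Subgroup Y).subgroupOf X) = Nat.card ↥(X.subgroupOf (T : Subgroup Y)) := by
      rw [← card_subtype X ((T : Subgroup Y).subgroupOf X), ← card_subtype (T : Subgroup Y) (X.subgroupOf T),
        subgroupOf_map_subtype, subgroupOf_map_subtype, inf_comm]
    have h2 : (T : Subgroup Y).relIndex X * Nat.card ↥((T : Subgroup Y).subgroupOf X) = Nat.card X := by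
      rw [mul_comm]; exact card_mul_index _
    have h3 : X.relIndex T * Nat.card ↥(X.subgroupOf (T : Subgroup Y)) = Nat.card T := by
      rw [mul_comm]; exact card_mul_index _
    have h4 : X.index = X.relIndex T := by
      rw [← relIndex_sup_right (K := X) (H := (T : Subgroup Y)), PResidual.pResidual_sup_sylow T, relIndex_top_right]
    have h5 := (T : Subgroup Y).card_mul_index
    rw [← X.card_mul_index, h4, ← h3, ← h2, h1] at h5
    have h6 : (T : Subgroup Y).index = (T : Subgroup Y).relIndex X := by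
      have hpos : 0 < X.relIndex (T : Subgroup Y) * Nat.card ↥(X.subgroupOf (T : Subgroup Y)) := by
        rw [h3]; exact Nat.card_pos
      exact Nat.eq_of_mul_eq_mul_left hpos (h5.trans (by ring))
    exact h6 ▸ T.not_dvd_index
  obtain ⟨g, hg⟩ := MulAction.exists_smul_eq X (hU0.pgroup.toSylow hU0.index_prime) (hUp.toSylow hUi)
  have hUg : U0.map (MulAut.conj g).toMonoidHom = U := by
    have := congrArg (fun S : Sylow p X => (S : Subgroup X)) hg
    rw [Sylow.coe_subgroup_smul] at this
    exact this
  have hD : IsData p U := by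
    rw [← hUg]
    refine hU0.map (MulAut.conj g).toMonoidHom (MulAut.conj g).surjective ?_ ?_
    · rw [(MonoidHom.ker_eq_bot_iff _).mpr (MulAut.conj g).injective]; exact bot_le
    · rw [(MonoidHom.ker_eq_bot_iff _).mpr (MulAut.conj g).injective, card_bot]; exact hp.out.not_dvd_one
  obtain ⟨t, htN, htp, hfp, w, hw, hwt⟩ := hD.torus
  have hmemU : ∀ x : X, x ∈ U ↔ x.1 ∈ (T : Subgroup Y) := fun x => mem_subgroupOf
  have htT : t.1 ∈ normalizer ((T : Subgroup Y) : Set Y) := by
    have key : ∀ s ∈ (T : Subgroup Y), t.1 * s * t.1⁻¹ ∈ (T : Subgroup Y) := by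
      intro s hs
      obtain ⟨k, hk⟩ := pow_eq_one_of_mem T.2 hs
      let β : X ≃* X := MulAut.conjNormal (H := X) s
      have hβ : ∀ x, x ∈ U ↔ β x ∈ U := fun x => by
        rw [hmemU, hmemU, show ((β x : X) : Y) = s * x.1 * s⁻¹ from MulAut.conjNormal_apply s x]
        exact (mem_normalizer_iff.mp (le_normalizer hs) x.1)
      have h1 := hD.torus_fix β hβ (k := k) (fun x => by
        rw [iterate_conjNormal, hk, map_one]; rfl) htN htp
      have h2 : s * t.1 * s⁻¹ * t.1⁻¹ ∈ (T : Subgroup Y) := by
        have := (hmemU _).mp h1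
        rwa [Subgroup.coe_mul, Subgroup.coe_inv, show ((β t : X) : Y) = s * t.1 * s⁻¹ from MulAut.conjNormal_apply s t] at this
      have h3 := mul_mem (inv_mem h2) hs
      simpa [mul_assoc] using h3
    rw [← inv_mem_iff]
    refine mem_normalizer_iff''.mpr fun s => ?_
    let C : Subgroup Y := (T : Subgroup Y).map (MulAut.conj t.1).toMonoidHom
    have hC : C = T := eq_of_le_of_card_ge (by rintro _ ⟨s, hs, rfl⟩; exact key s hs)
      (by rw [card_map_of_injective (MulAut.conj t.1).injective])
    constructor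
    · intro hs; simpa [mul_assoc] using key s hs
    · intro hs
      have h' : t.1⁻¹⁻¹ * s * t.1⁻¹ ∈ C := by rw [hC]; exact hs
      obtain ⟨r, hr, e⟩ := h'
      have : r = s := by simpa [MulAut.conj_apply] using e
      exact this ▸ hr
  let α : X ≃* X := MulAut.conjNormal (H := X) z
  have hα : ∀ x : X, ((α x : X) : Y) = z * x.1 * z⁻¹ := fun x => MulAut.conjNormal_apply z x
  have hfix := hD.aut_eq_one α (fun u hu => Subtype.ext (by
      rw [hα, hcent u.1 (le_normalizer ((hmemU u).mp hu)), mul_inv_cancel_right])) htN hfp hw hwt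
    (Subtype.ext (by rw [hα, hcent t.1 htT, mul_inv_cancel_right]))
  have hzc : z ∈ Subgroup.center Y := by
    rw [mem_center_iff]
    intro y
    have htop : (T : Subgroup Y) ⊔ X ≤ centralizer ({z} : Set Y) := by
      refine sup_le (fun s hs => mem_centralizer_singleton_iff.mpr (hcent s (le_normalizer hs)).symm)
        (fun x hx => mem_centralizer_singleton_iff.mpr ?_)
      have e := congrArg Subtype.val (hfix ⟨x, hx⟩)
      rw [hα] at e
      exact (mul_inv_eq_iff_eq_mul.mp e).symm
    exact mem_centralizer_singleton_iff.mp (htop (PResidual.pResidual_sup_sylow T ▸ mem_top y))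
  haveI : (zpowers z).Normal := ⟨fun n hn g => by
    have hnc : n ∈ Subgroup.center Y := zpowers_le.mpr hzc hn
    rw [mem_center_iff.mp hnc g, mul_inv_cancel_right]; exact hn⟩
  have hzp : IsPGroup p (zpowers z) := T.2.to_le (zpowers_le.mpr hz)
  have := CfsgLib.le_pCore hzp (mem_zpowers z)
  rwa [hcore, mem_bot] at this

/-- The ambient form. -/
theorem mem_pCore_of_central {G : Type*} [Group G] [Finite G] (S : Sylow p G) (P : Subgroup G)
    (hSP : (S : Subgroup G) ≤ P) [(Cfsg.pCore p ↥P).Normal]
    (hX : ∃ U : Subgroup ↥(Cfsg.pResidual p (↥P ⧸ Cfsg.pCore p ↥P)), IsData p U) {z : G}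
    (hcent : ∀ g ∈ normalizer ((S : Subgroup G) : Set G), z * g = g * z)
    (hpow : ∃ k : ℕ, orderOf z = p ^ k) :
    z ∈ (Cfsg.pCore p ↥P).map P.subtype := by
  obtain ⟨k, hk⟩ := hpow
  have hzN : z ∈ normalizer ((S : Subgroup G) : Set G) := by
    rw [mem_normalizer_iff]
    intro s
    constructor
    · intro hs; rw [hcent s (le_normalizer hs), mul_inv_cancel_right]; exact hs
    · intro hs
      have e := hcent _ (le_normalizer hs)
      have : z * s * z⁻¹ = s := by
        have e' : z * (z * s * z⁻¹) = z * s := by rw [e, inv_mul_cancel_right]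
        exact mul_left_cancel e'
      rwa [this] at hs
  have hzS : z ∈ (S : Subgroup G) := mem_of_pElement S.2 S.not_dvd_index hzN (k := k)
    (hk ▸ pow_orderOf_eq_one z)
  let q := QuotientGroup.mk' (Cfsg.pCore p ↥P)
  let T : Sylow p (↥P ⧸ Cfsg.pCore p ↥P) := (S.subtype hSP).mapSurjective (QuotientGroup.mk'_surjective _)
  have hT : (T : Subgroup (↥P ⧸ Cfsg.pCore p ↥P)) = ((S : Subgroup G).subgroupOf P).map q := rfl
  have hOS : Cfsg.pCore p ↥P ≤ (S : Subgroup G).subgroupOf P := CfsgLib.pCore_le_sylow (S.subtype hSP)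
  have hcore : Cfsg.pCore p (↥P ⧸ Cfsg.pCore p ↥P) = ⊥ := by
    have h := PResidual.comap_pCore_quotient (p := p) (Cfsg.pCore p ↥P) (CfsgLib.isPGroup_pCore p)
    rw [← map_comap_eq_self_of_surjective (QuotientGroup.mk'_surjective _)
      (Cfsg.pCore p (↥P ⧸ Cfsg.pCore p ↥P)), h, QuotientGroup.map_mk'_self]
  have h1 : q ⟨z, hSP hzS⟩ = 1 := by
    refine eq_one_of_central hcore hX T (hT ▸ mem_map_of_mem q (mem_subgroupOf.mpr hzS)) fun y hy => ?_
    obtain ⟨⟨g, hgP⟩, rfl⟩ := QuotientGroup.mk'_surjective _ y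
    have hg : (⟨g, hgP⟩ : P) ∈ normalizer (((S : Subgroup G).subgroupOf P : Subgroup P) : Set P) := by
      have h2 : (((S : Subgroup G).subgroupOf P).map q).comap q = (S : Subgroup G).subgroupOf P := by
        rw [comap_map_eq, QuotientGroup.ker_mk', sup_eq_left.mpr hOS]
      rw [mem_normalizer_iff]
      intro x
      rw [← h2, mem_comap, mem_comap, map_mul, map_mul, map_inv]
      rw [hT] at hy
      exact mem_normalizer_iff.mp hy (q x)
    have hgG : g ∈ normalizer ((S : Subgroup G) : Set G) := by
      rw [mem_normalizer_iff]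
      intro x
      constructor
      · intro hx
        exact mem_subgroupOf.mp ((mem_normalizer_iff.mp hg ⟨x, hSP hx⟩).mp (mem_subgroupOf.mpr hx))
      · intro hx
        have hxP : x ∈ P := by
          have := P.mul_mem (P.mul_mem (P.inv_mem hgP) (hSP hx)) hgP
          simpa [mul_assoc] using this
        exact mem_subgroupOf.mp ((mem_normalizer_iff.mp hg ⟨x, hxP⟩).mpr (mem_subgroupOf.mpr hx))
    rw [← map_mul, ← map_mul]
    exact congrArg q (Subtype.ext (hcent g hgG))
  exact ⟨⟨z, hSP hzS⟩, (QuotientGroup.eq_one_iff _).mp h1, rfl⟩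

end CfsgLib.RankOneCentre
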