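import Cfsg.Agent.Lib.RankOneCentre.Core
import Cfsg.Agent.Lib.PSU3Min.Borel
import Cfsg.Agent.Lib.UnitarySimple
import Cfsg.Agent.Lib.SL2Borel
import Cfsg.Agent.Lib.SLCard

/-!
The rank one data of `SL₂(q)`, `PSL₂(q)`, `SU₃(q)` and `PSU₃(q)`.
-/

set_option autoImplicit false
set_option linter.unusedSectionVars false

namespace CfsgLib.RankOneCentre

open Subgroup

variable {p : ℕ} [hp : Fact p.Prime]

/-- Data from a Borel subgroup and its torus character. -/
theorem isData_of_borel {X : Type*} [Group X] [Finite X] (B U : Subgroup X) (hperf : commutator X = ⊤)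
    (hUB : U ≤ B) {A : Type*} [CommGroup A] [Finite A] [IsCyclic A] (ρ : ↥B →* A)
    (hker : ρ.ker = U.subgroupOf B) (hA : ¬ p ∣ Nat.card A) (hU : IsPGroup p U) (hU1 : U ≠ ⊥)
    (hti : ∀ u ∈ U, u ≠ 1 → ∀ g : X, g⁻¹ * u * g ∈ U → g ∈ B) (hidx : B.index = Nat.card U + 1)
    {t w : X} (htB : t ∈ B) (htp : t ^ (p - 1) = 1) (hfp : ∀ u ∈ U, t * u = u * t → u = 1)
    (hw : w ∉ B) (hwt : w * t * w⁻¹ ∈ B) : IsData p U := by
  obtain ⟨a0, ha0, hne⟩ := (U.ne_bot_iff_exists_ne_one.mp hU1 |>.elim fun x hx =>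
    ⟨(x : X), x.2, fun e => hx (Subtype.ext e)⟩ : ∃ a ∈ U, a ≠ 1)
  haveI : (U.subgroupOf B).Normal := hker ▸ MonoidHom.normal_ker ρ
  have hN : normalizer (U : Set X) = B := by
    refine le_antisymm (fun g hg => hti a0 ha0 hne g ((mem_normalizer_iff''.mp hg a0).mp ha0)) ?_
    exact (normal_subgroupOf_iff_le_normalizer hUB).mp inferInstance
  have hdiv : ¬ p ∣ U.index := by
    rw [← relIndex_mul_index hUB]
    intro hd
    rcases hp.out.dvd_mul.mp hd with hd | hd
    · have : U.relIndex B = Nat.card ρ.range := by rw [relIndex, ← hker, index_ker]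
      exact hA (hd.trans (this ▸ card_subgroup_dvd_card ρ.range))
    · rw [hidx] at hd
      obtain ⟨k, hk⟩ := IsPGroup.iff_card.mp hU
      have hk0 : k ≠ 0 := fun e => hU1 (eq_bot_of_card_eq U (by rw [hk, e, pow_zero]))
      exact hp.out.not_dvd_one ((Nat.dvd_add_right (hk ▸ dvd_pow_self p hk0)).mp hd)
  refine
    { pgroup := hU
      index_prime := hdiv
      perfect := hperf
      ti := fun u hu hu1 g hg => hN ▸ hti u hu hu1 g hg
      count := hN ▸ hidx
      cyclic := ?_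
      torus := ⟨t, hN ▸ htB, htp ▸ one_mem U, hfp, w, hN ▸ hw, hN ▸ hwt⟩ }
  rw [hN]
  obtain ⟨a, ha⟩ := IsCyclic.exists_generator (α := ρ.range)
  obtain ⟨b, hb⟩ := a.2
  refine ⟨b.1, b.2, fun x hx => ?_⟩
  obtain ⟨i, hi⟩ := ha ⟨ρ ⟨x, hx⟩, ⟨_, rfl⟩⟩
  refine ⟨i, ?_⟩
  have hi' : (a : A) ^ i = ρ ⟨x, hx⟩ := by
    have := congrArg Subtype.val hi
    simpa using this
  have : (⟨x, hx⟩ : B)⁻¹ * b ^ i ∈ U.subgroupOf B := by
    rw [← hker, MonoidHom.mem_ker, map_mul, map_inv, map_zpow, hb, hi', inv_mul_cancel]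
  simpa using mem_subgroupOf.mp this

section Field

variable {F : Type*} [Field F] [Fintype F]

/-- The unit `2`, of order dividing `p - 1`. -/
theorem two_facts [CharP F p] (hp5 : 5 ≤ p) :
    (2 : F) ≠ 0 ∧ (2 : F) ^ (p - 1) = 1 ∧ (2 : F) ^ 2 ≠ 1 := by
  have h2 : (2 : F) ≠ 0 := by
    intro h
    have := (CharP.cast_eq_zero_iff F p 2).mp (by exact_mod_cast h)
    have := Nat.le_of_dvd two_pos this
    omega
  refine ⟨h2, ?_, ?_⟩
  · have h : ((2 : ℕ) : ZMod p) ≠ 0 := by
      rw [Ne, CharP.cast_eq_zero_iff (ZMod p) p]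
      intro h
      have := Nat.le_of_dvd two_pos h
      omega
    have e := congrArg (ZMod.castHom (dvd_refl p) F) (ZMod.pow_card_sub_one_eq_one h)
    rw [map_pow, map_one, map_natCast] at e
    exact_mod_cast e
  · intro h
    have h' : ((3 : ℕ) : F) = 0 := by
      push_cast
      linear_combination h
    have := Nat.le_of_dvd three_pos ((CharP.cast_eq_zero_iff F p 3).mp h')
    omega

end Field

section SL2

open Matrix

variable {F : Type*} [Field F] [Fintype F]

local notation "SL" => Matrix.SpecialLinearGroup (Fin 2) F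

/-- The upper triangular subgroup. -/
abbrev BS : Subgroup SL := (Cfsg.upperTriangularGL 2 F).comap Matrix.SpecialLinearGroup.toGL

theorem corner_ne {g : SL} (h : g ∈ BS (F := F)) : g.1 0 0 ≠ 0 := fun e => by
  have hd := CfsgLib.SL2Borel.det_eq g
  rw [CfsgLib.SL2Borel.mem_borel.mp h, e] at hd
  simp at hd

/-- The diagonal torus. -/
def diagS : Fˣ →* SL where
  toFun x := ⟨!![(x : F), 0; 0, ((x⁻¹ : Fˣ) : F)], by simp [Matrix.det_fin_two]⟩
  map_one' := by ext i j; fin_cases i <;> fin_cases j <;> simp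
  map_mul' x y := by
    ext i j
    show !![((x * y : Fˣ) : F), 0; 0, (((x * y)⁻¹ : Fˣ) : F)] i j =
      (!![(x : F), 0; 0, ((x⁻¹ : Fˣ) : F)] * !![(y : F), 0; 0, ((y⁻¹ : Fˣ) : F)]) i j
    fin_cases i <;> fin_cases j <;> simp [Matrix.mul_apply, Fin.sum_univ_two, mul_comm]

theorem diagS_coe (x : Fˣ) : (diagS x).1 = !![(x : F), 0; 0, ((x⁻¹ : Fˣ) : F)] := rfl

/-- The Weyl element. -/
def wS : SL := ⟨!![0, 1; -1, 0], by simp [Matrix.det_fin_two]⟩

theorem wS_coe : (wS : SL).1 = !![0, 1; -1, 0] := rfl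

/-- The corner entry. -/
def cornerS : ↥(BS (F := F)) →* Fˣ where
  toFun g := Units.mk0 (g.1.1 0 0) (corner_ne g.2)
  map_one' := Units.ext (by simp)
  map_mul' g h := Units.ext (by
    have h2 := CfsgLib.SL2Borel.mem_borel.mp h.2
    simp [Matrix.mul_apply, Fin.sum_univ_two, h2])

/-- The upper unitriangular subgroup. -/
abbrev US : Subgroup SL := (cornerS (F := F)).ker.map (BS (F := F)).subtype

theorem mem_US {g : SL} : g ∈ US (F := F) ↔ g.1 1 0 = 0 ∧ g.1 0 0 = 1 := by
  constructor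
  · rintro ⟨⟨x, hx⟩, hk, rfl⟩
    exact ⟨CfsgLib.SL2Borel.mem_borel.mp hx, congrArg Units.val hk⟩
  · rintro ⟨h1, h2⟩
    exact ⟨⟨g, CfsgLib.SL2Borel.mem_borel.mpr h1⟩, Units.ext h2, rfl⟩

theorem US_one_one {g : SL} (hg : g ∈ US (F := F)) : g.1 1 1 = 1 := by
  have hd := CfsgLib.SL2Borel.det_eq g
  rw [(mem_US.mp hg).1, (mem_US.mp hg).2] at hd
  simpa using hd

theorem card_BS_index : (BS (F := F)).index = Fintype.card F + 1 := by
  have h := (BS (F := F)).card_mul_index
  rw [CfsgLib.SL2Borel.card_borel, CfsgLib.SLCard.card_SL_two] at h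
  have hq := Fintype.one_lt_card (α := F)
  have e : Fintype.card F ^ 2 - 1 = (Fintype.card F - 1) * (Fintype.card F + 1) := by
    obtain ⟨m, hm⟩ := Nat.exists_eq_add_of_le hq.le
    rw [hm, Nat.add_sub_cancel_left]
    apply Nat.sub_eq_of_eq_add
    ring
  rw [e] at h
  refine Nat.eq_of_mul_eq_mul_left (show 0 < (Fintype.card F - 1) * Fintype.card F by
    exact Nat.mul_pos (by omega) (by omega)) (h.trans (by ring))

theorem card_US : Nat.card (US (F := F)) = Fintype.card F := by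
  rw [Subgroup.card_subtype]
  have h := (cornerS (F := F)).ker.card_mul_index
  have hs : Function.Surjective (cornerS (F := F)) := fun x =>
    ⟨⟨⟨!![(x : F), 0; 0, ((x⁻¹ : Fˣ) : F)], by simp [Matrix.det_fin_two]⟩,
      CfsgLib.SL2Borel.mem_borel.mpr (by simp)⟩, Units.ext (by simp [cornerS])⟩
  rw [index_ker, MonoidHom.range_eq_top.mpr hs, card_top, Nat.card_units, Nat.card_eq_fintype_card (α := F),
    CfsgLib.SL2Borel.card_borel] at h
  have hq := Fintype.one_lt_card (α := F)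
  exact Nat.eq_of_mul_eq_mul_right (show 0 < Fintype.card F - 1 by omega) (h.trans (mul_comm _ _))

theorem isData_SL2 (hp5 : 5 ≤ p) {a : ℕ} (ha : 1 ≤ a) (hF : Fintype.card F = p ^ a) :
    IsData p (US (F := F)) := by
  haveI : CharP F p := charP_of_card_eq_prime_pow hF
  obtain ⟨h2, h2p, h22⟩ := two_facts (F := F) (p := p) hp5
  have hcard := card_US (F := F)
  have hwT : wS * diagS (Units.mk0 2 h2) = diagS (Units.mk0 2 h2)⁻¹ * wS := by
    ext i j
    rw [Matrix.SpecialLinearGroup.coe_mul, Matrix.SpecialLinearGroup.coe_mul, diagS_coe, diagS_coe, wS_coe]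
    fin_cases i <;> fin_cases j <;> simp [Matrix.mul_apply, Fin.sum_univ_two]
  refine isData_of_borel (BS (F := F)) (US (F := F)) (Matrix.SL2.commutator_eq_top h2 h22)
    (map_subtype_le _) (cornerS (F := F)) ?_ ?_ ?_ ?_ ?_ (by rw [card_BS_index, hcard])
    (t := diagS (Units.mk0 2 h2)) (w := wS) ?_ ?_ ?_ ?_ ?_
  · exact (comap_map_eq_self_of_injective (subtype_injective _) _).symm
  · rw [Nat.card_units, Nat.card_eq_fintype_card, hF]
    intro hd
    have h1 : 1 ≤ p ^ a := Nat.one_le_pow _ _ hp.out.pos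
    have := Nat.dvd_sub (dvd_pow_self p (by omega : a ≠ 0)) hd
    rw [Nat.sub_sub_self h1] at this
    exact hp.out.not_dvd_one this
  · exact IsPGroup.of_card (hcard.trans hF)
  · intro e
    rw [e, card_bot] at hcard
    exact (Fintype.one_lt_card (α := F)).ne hcard
  · intro u hu hu1 g hg
    obtain ⟨u10, u00⟩ := mem_US.mp hu
    obtain ⟨v10, v00⟩ := mem_US.mp hg
    have hb : u.1 0 1 ≠ 0 := by
      intro hb
      apply hu1
      ext i j
      fin_cases i <;> fin_cases j <;> simp [u10, u00, hb, US_one_one hu]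
    have e : (u * g).1 0 0 = (g * (g⁻¹ * u * g)).1 0 0 := by rw [show g * (g⁻¹ * u * g) = u * g by group]
    rw [Matrix.SpecialLinearGroup.coe_mul, Matrix.SpecialLinearGroup.coe_mul, Matrix.mul_apply,
      Matrix.mul_apply, Fin.sum_univ_two, Fin.sum_univ_two, u00, v00, v10] at e
    have : u.1 0 1 * g.1 1 0 = 0 := by linear_combination e
    exact CfsgLib.SL2Borel.mem_borel.mpr ((mul_eq_zero.mp this).resolve_left hb)
  · exact CfsgLib.SL2Borel.mem_borel.mpr (by simp [diagS_coe])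
  · rw [← map_pow, show (Units.mk0 (2 : F) h2) ^ (p - 1) = 1 from Units.ext (by simpa using h2p), map_one]
  · intro u hu e
    obtain ⟨u10, u00⟩ := mem_US.mp hu
    have e1 := congrArg (fun g : SL => g.1 0 1) e
    simp [diagS_coe, Matrix.mul_apply, Fin.sum_univ_two, u00] at e1
    have h3 : ((2 : F) ^ 2 - 1) * u.1 0 1 = 0 := by
      field_simp at e1
      linear_combination e1
    have hb := (mul_eq_zero.mp h3).resolve_left (sub_ne_zero.mpr h22)
    ext i j
    fin_cases i <;> fin_cases j <;> simp [u10, u00, hb, US_one_one hu]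
  · intro hw
    have := CfsgLib.SL2Borel.mem_borel.mp hw
    simp [wS_coe] at this
  · rw [hwT, mul_inv_cancel_right]
    exact CfsgLib.SL2Borel.mem_borel.mpr (by simp [diagS_coe])

theorem exists_isData_PSL2 (hp5 : 5 ≤ p) {a : ℕ} (ha : 1 ≤ a) (hF : Fintype.card F = p ^ a) :
    ∃ U : Subgroup (Matrix.ProjectiveSpecialLinearGroup (Fin 2) F), IsData p U := by
  refine ⟨_, (isData_SL2 hp5 ha hF).map (QuotientGroup.mk' _) (QuotientGroup.mk'_surjective _)
    (QuotientGroup.ker_mk' _).le ?_⟩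
  rw [QuotientGroup.ker_mk', CfsgLib.SLCard.card_SL_center (by norm_num)]
  intro hd
  have := Nat.le_of_dvd (by positivity) hd
  have := Nat.le_of_dvd two_pos (Nat.gcd_dvd_left 2 (Fintype.card F - 1))
  omega

end SL2

section SU3

open Matrix CfsgLib.PSUBorel CfsgLib.PSU3Min

variable {F : Type*} [Field F] [Fintype F] (c : Conj F)

local notation "G" => SUs c 3

/-- The anti-diagonal element. -/
def wU : G :=
  ⟨⟨-aJ F 3, by
    rw [Matrix.det_fin_three]
    simp [aJ, Fin.rev]⟩, by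
    show Cond c (-aJ F 3)
    ext i j
    rw [Matrix.mul_apply]
    simp only [mul_aJ]
    fin_cases i <;> fin_cases j <;> simp [aJ, Fin.sum_univ_three, Fin.rev]⟩

theorem isData_SU3 (hp5 : 5 ≤ p) [CharP F p] : IsData p (UG c) := by
  obtain ⟨h2, h2p, h22⟩ := two_facts (F := F) (p := p) hp5
  obtain ⟨E⟩ := exists_iso c (n := 3)
  have hq := c.one_lt
  have hperf : commutator G = ⊤ := by
    have hP := UnitarySimple.perfect (F := F) (q := c.q) c.card (n := 3) (le_refl 3) (by
      rintro ⟨-, e⟩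
      have := p_dvd_q c p
      rw [e] at this
      have := Nat.le_of_dvd two_pos this
      omega)
    rw [_root_.commutator_def, ← Subgroup.map_top_of_surjective E.symm.toMonoidHom E.symm.surjective,
      ← map_commutator, ← _root_.commutator_def, hP]
  have hcard := card_UG c p
  have h1 : (2 : F) ≠ 1 := fun e => h22 (by rw [e, one_pow])
  have hσ : c.σ (2 : F) = 2 := map_ofNat _ 2
  refine isData_of_borel (BG c) (UG c) hperf (UG_le c) (corner c) (corner_ker c) ?_ ?_ ?_
    (fun u hu hu1 g hg => ti c hu hu1 hg) (by rw [index_BG c p, hcard])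
    (t := dg c (Units.mk0 2 h2)) (w := wU c) (dg_mem c _) ?_ ?_ ?_ ?_
  · rw [card_units c]; exact not_dvd_sq_sub_one c p
  · obtain ⟨f, -, hf⟩ := exists_pow_q c p
    exact IsPGroup.of_card (n := f * 3) (by rw [hcard, hf, pow_mul])
  · intro e
    rw [e, card_bot] at hcard
    exact (Nat.one_lt_pow three_ne_zero hq).ne hcard
  · apply SUs_ext c
    have hpw : ∀ n : ℕ, ((dg c (Units.mk0 2 h2)) ^ n).1.1 = (dg c (Units.mk0 2 h2)).1.1 ^ n := by
      intro n
      induction n with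
      | zero => simp [PSUBorel.coe_one]
      | succ n ih => rw [pow_succ, pow_succ, PSUBorel.coe_mul, ih]
    rw [hpw, PSUBorel.coe_one]
    simp only [dg]
    rw [Matrix.diagonal_pow, ← Matrix.diagonal_one]
    congr 1
    funext i
    fin_cases i <;> simp [h2p, hσ, h2]
  · intro u hu e
    obtain ⟨u10, u20, u21⟩ := (mem_BG_iff c).mp (UG_le c hu)
    have e' : (dg c (Units.mk0 2 h2)).1.1 * u.1.1 = u.1.1 * (dg c (Units.mk0 2 h2)).1.1 := by
      rw [← PSUBorel.coe_mul, ← PSUBorel.coe_mul, e]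
    have e01 := congrFun (congrFun e' 0) 1
    have e02 := congrFun (congrFun e' 0) 2
    simp [dg, Matrix.mul_apply, Fin.sum_univ_three, hσ, h2] at e01 e02
    have h01 : u.1.1 0 1 = 0 := by
      by_contra hne
      exact h1 (mul_right_cancel₀ hne (e01.trans (one_mul _).symm))
    have h02 : u.1.1 0 2 = 0 := by
      field_simp at e02
      exact (mul_eq_zero.mp (show ((2 : F) ^ 2 - 1) * u.1.1 0 2 = 0 by linear_combination e02)).resolve_left
        (sub_ne_zero.mpr h22)
    obtain ⟨hrel, -⟩ := UG_rel c hu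
    rw [h01, map_zero, neg_zero] at hrel
    refine SUs_ext c (Matrix.ext fun i j => ?_)
    rw [PSUBorel.coe_one]
    fin_cases i <;> fin_cases j <;> simp [UU_diag c hu, u10, u20, u21, h01, h02, hrel]
  · intro hw
    have := ((mem_BG_iff c).mp hw).2.1
    simp [wU, aJ, Fin.rev] at this
  · have hwt : wU c * dg c (Units.mk0 2 h2) = dg c (Units.mk0 2 h2)⁻¹ * wU c := by
      refine SUs_ext c (Matrix.ext fun i j => ?_)
      rw [PSUBorel.coe_mul, PSUBorel.coe_mul]
      fin_cases i <;> fin_cases j <;>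
        simp [wU, dg, aJ, Matrix.mul_apply, Fin.sum_univ_three, Fin.rev, hσ, h2]
    rw [hwt, mul_inv_cancel_right]
    exact dg_mem c _

theorem exists_isData_SU3 (hp5 : 5 ≤ p) {a : ℕ} (hF : Fintype.card F = p ^ (2 * a)) :
    (∃ U : Subgroup ↥(Cfsg.SU 3 F (p ^ a)), IsData p U) ∧
      ∃ U : Subgroup (Cfsg.PSU 3 F (p ^ a)), IsData p U := by
  haveI : CharP F p := charP_of_card_eq_prime_pow hF
  have hF' : Fintype.card F = (p ^ a) ^ 2 := by rw [hF, ← pow_mul, mul_comm]
  obtain ⟨-, σ, hσ⟩ := CfsgLib.UnitaryBasic.frob_exists hF'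
  obtain ⟨c, hc⟩ : ∃ c : Conj F, c.q = p ^ a := ⟨⟨p ^ a, σ, hF', hσ⟩, rfl⟩
  rw [← hc]
  obtain ⟨E⟩ := exists_iso c (n := 3)
  have h1 := (isData_SU3 c hp5).map E.toMonoidHom E.surjective
    (by rw [(MonoidHom.ker_eq_bot_iff _).mpr E.injective]; exact bot_le)
    (by rw [(MonoidHom.ker_eq_bot_iff _).mpr E.injective, card_bot]; exact hp.out.not_dvd_one)
  refine ⟨⟨_, h1⟩, _, h1.map (QuotientGroup.mk' _) (QuotientGroup.mk'_surjective _)
    (QuotientGroup.ker_mk' _).le ?_⟩
  rw [QuotientGroup.ker_mk', Cfsg.Agent.S0280.center_card c.card 3 (by norm_num)]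
  intro hd
  have h3 : Nat.gcd 3 (c.q + 1) ∣ 3 := Nat.gcd_dvd_left _ _
  have := Nat.le_of_dvd three_pos (hd.trans h3)
  omega

end SU3

end CfsgLib.RankOneCentre
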